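/-
The order of the presented sporadic Suzuki group: `|Suz| = 448345497600`, and the action on the
1782 cosets of `⟨a, …, f⟩` is faithful.
-/
import Cfsg.Agent.Lib.Helper28.OrdLemmas
import Cfsg.Agent.Lib.Helper28.Suz1782.Main
import Cfsg.Agent.Lib.Helper28.SuzOrd.Chain
import Cfsg.Agent.Lib.Helper28.SuzOrd.C416.Main
import Cfsg.Agent.Lib.Helper28.SuzOrd.C280.Main
import Cfsg.Agent.Lib.Helper28.SuzOrd.C2160.Main

set_option autoImplicit false

namespace Cfsg.Agent.Lib.Helper28.SuzOrd

open Cfsg.Agent.Lib.Helper28.TC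
open Cfsg.Agent.Lib.Helper28.Ord
open Cfsg.Agent.Lib.Helper28.SuzSub

/-! ### The upper bound -/

theorem card_P4 : Finite (PresentedGroup C2160.rels) ∧ Nat.card (PresentedGroup C2160.rels) ≤ 2160 := by
  obtain ⟨e, _, _⟩ := C2160.cosetEquiv
  have hidx : (subH C2160.rels C2160.subS).index = 2160 := (Nat.card_congr e).trans (Nat.card_fin _)
  have hbot : subH C2160.rels C2160.subS = ⊥ := by
    rw [subH]
    have : Subgroup.closure C2160.subS = ⊥ := by
      rw [Subgroup.closure_eq_bot_iff]
      intro x hx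
      exact absurd hx (Set.notMem_empty x)
    rw [this, Subgroup.map_bot]
  have h := card_le_of_index (subH C2160.rels C2160.subS) 2160 1 (by decide) hidx
    (by rw [hbot]; infer_instance) (by rw [hbot]; simp)
  simpa using h

theorem card_P5 : Finite (PresentedGroup C280.rels) ∧
    Nat.card (PresentedGroup C280.rels) ≤ 280 * 2160 := by
  obtain ⟨hfin, hcard⟩ := card_P4
  obtain ⟨e, _, _⟩ := C280.cosetEquiv
  have hidx : (subH C280.rels C280.subS).index = 280 := (Nat.card_congr e).trans (Nat.card_fin _)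
  obtain ⟨ψ, hψ⟩ := exists_hom_of_words P4.incl C280.rels C2160.rels C280.hinv
    (coxE P4.edges ++ C2160.extraE) (fun r hr => (C2160.rels_iff r).1 hr)
    (coxE P5.edges ++ C280.extraE) (fun e he => (C280.rels_iff _).2 ⟨e, he, rfl⟩)
    (by decide +kernel)
  have hle : subH C280.rels C280.subS ≤ ψ.range := by
    apply subH_le_range P4.incl C280.rels C2160.rels C280.subS ψ hψ
    rintro s (rfl | rfl | rfl | rfl)
    · exact ⟨P4.a, rfl⟩
    · exact ⟨P4.b, rfl⟩
    · exact ⟨P4.c, rfl⟩
    · exact ⟨P4.d, rfl⟩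
  obtain ⟨hf, hc⟩ := card_le_of_range ψ _ hle
  exact card_le_of_index _ 280 2160 (by decide) hidx hf (le_trans hc hcard)

theorem card_P6 : Finite (PresentedGroup C416.rels) ∧
    Nat.card (PresentedGroup C416.rels) ≤ 416 * (280 * 2160) := by
  obtain ⟨hfin, hcard⟩ := card_P5
  obtain ⟨e, _, _⟩ := C416.cosetEquiv
  have hidx : (subH C416.rels C416.subS).index = 416 := (Nat.card_congr e).trans (Nat.card_fin _)
  obtain ⟨ψ, hψ⟩ := exists_hom_of_words P5.incl C416.rels C280.rels C416.hinv
    (coxE P5.edges ++ C280.extraE) (fun r hr => (C280.rels_iff r).1 hr)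
    (coxE P6.edges ++ C416.extraE) (fun e he => (C416.rels_iff _).2 ⟨e, he, rfl⟩)
    (by decide +kernel)
  have hle : subH C416.rels C416.subS ≤ ψ.range := by
    apply subH_le_range P5.incl C416.rels C280.rels C416.subS ψ hψ
    rintro s (rfl | rfl | rfl | rfl | rfl)
    · exact ⟨P5.a, rfl⟩
    · exact ⟨P5.b, rfl⟩
    · exact ⟨P5.c, rfl⟩
    · exact ⟨P5.d, rfl⟩
    · exact ⟨P5.e, rfl⟩
  obtain ⟨hf, hc⟩ := card_le_of_range ψ _ hle
  exact card_le_of_index _ 416 _ (by decide) hidx hf (le_trans hc hcard)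

theorem card_Suz_le : Finite (PresentedGroup Suz1782.rels) ∧
    Nat.card (PresentedGroup Suz1782.rels) ≤ 1782 * (416 * (280 * 2160)) := by
  obtain ⟨hfin, hcard⟩ := card_P6
  obtain ⟨e, _, _⟩ := Suz1782.cosetEquiv
  have hidx : (subH Suz1782.rels Suz1782.subS).index = 1782 :=
    (Nat.card_congr e).trans (Nat.card_fin _)
  obtain ⟨ψ, hψ⟩ := exists_hom_of_words P6.incl Suz1782.rels C416.rels Suz1782.hinv
    (coxE P6.edges ++ C416.extraE) (fun r hr => (C416.rels_iff r).1 hr)
    (coxE Cfsg.Spor.Suz.edges ++ Suz1782.extraE) (fun e he => (Suz1782.rels_iff _).2 ⟨e, he, rfl⟩)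
    (by decide +kernel)
  have hle : subH Suz1782.rels Suz1782.subS ≤ ψ.range := by
    apply subH_le_range P6.incl Suz1782.rels C416.rels Suz1782.subS ψ hψ
    rintro s (rfl | rfl | rfl | rfl | rfl | rfl)
    · exact ⟨P6.a, rfl⟩
    · exact ⟨P6.b, rfl⟩
    · exact ⟨P6.c, rfl⟩
    · exact ⟨P6.d, rfl⟩
    · exact ⟨P6.e, rfl⟩
    · exact ⟨P6.f, rfl⟩
  obtain ⟨hf, hc⟩ := card_le_of_range ψ _ hle
  exact card_le_of_index _ 1782 _ (by decide) hidx hf (le_trans hc hcard)

/-! ### The lower bound -/

/-- the permutation representation on 1782 points -/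
noncomputable def phi : PresentedGroup Suz1782.rels →* Equiv.Perm (Fin Suz1782.nn) :=
  PresentedGroup.toGroup Suz1782.hrel

open Suz1782 in
theorem card_range_ge : 1782 * 416 * 1050 * 192 * 3 ≤ Nat.card phi.range := by
  have hfix2 := fixOK_spec tf _ _ ch2_fix
  have hfix3 := fixOK_spec tf _ _ ch3_fix
  have hfix4 := fixOK_spec tf _ _ ch4_fix
  have hfix5 := fixOK_spec tf _ _ ch5_fix
  have hb := chain_bound (A := Equiv.Perm (Fin nn)) (X := Fin nn)
    [(Subgroup.closure (wordPerms T chW1), ⟨chO1.root, ch1_rootlt⟩),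
     (Subgroup.closure (wordPerms T chW2), ⟨chO2.root, ch2_rootlt⟩),
     (Subgroup.closure (wordPerms T chW3), ⟨chO3.root, ch3_rootlt⟩),
     (Subgroup.closure (wordPerms T chW4), ⟨chO4.root, ch4_rootlt⟩),
     (Subgroup.closure (wordPerms T chW5), ⟨chO5.root, ch5_rootlt⟩)] phi.range
    (by
      intro p hp
      simp only [List.mem_cons, List.not_mem_nil, or_false] at hp
      rcases hp with rfl | rfl | rfl | rfl | rfl <;>
        exact closure_wordPerms_le_range T hrel _)
    (by
      simp only [List.pairwise_cons, List.mem_cons, List.not_mem_nil, or_false, forall_eq_or_imp,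
        forall_eq, IsEmpty.forall_iff, implies_true, List.Pairwise.nil, and_true]
      refine ⟨⟨?_, ?_, ?_, ?_⟩, ⟨?_, ?_, ?_⟩, ⟨?_, ?_⟩, ?_⟩
      · exact closure_wordPerms_le_stabilizer T _ _ (hfix2 0 (by simp))
      · exact closure_wordPerms_le_stabilizer T _ _ (hfix3 0 (by simp))
      · exact closure_wordPerms_le_stabilizer T _ _ (hfix4 0 (by simp))
      · exact closure_wordPerms_le_stabilizer T _ _ (hfix5 0 (by simp))
      · exact closure_wordPerms_le_stabilizer T _ _ (hfix3 995 (by simp))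
      · exact closure_wordPerms_le_stabilizer T _ _ (hfix4 995 (by simp))
      · exact closure_wordPerms_le_stabilizer T _ _ (hfix5 995 (by simp))
      · exact closure_wordPerms_le_stabilizer T _ _ (hfix4 21 (by simp))
      · exact closure_wordPerms_le_stabilizer T _ _ (hfix5 21 (by simp))
      · exact closure_wordPerms_le_stabilizer T _ _ (hfix5 8 (by simp)))
  have h1 := orbit_ncard_closure T chW1 chO1 ch1_rootlt ch1_root chP1_all 11 1782 ch_nn_le_pow ch1_count
  have h2 := orbit_ncard_closure T chW2 chO2 ch2_rootlt ch2_root chP2_all 11 416 ch_nn_le_pow ch2_count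
  have h3 := orbit_ncard_closure T chW3 chO3 ch3_rootlt ch3_root chP3_all 11 1050 ch_nn_le_pow ch3_count
  have h4 := orbit_ncard_closure T chW4 chO4 ch4_rootlt ch4_root chP4_all 11 192 ch_nn_le_pow ch4_count
  have h5 := orbit_ncard_closure T chW5 chO5 ch5_rootlt ch5_root chP5_all 11 3 ch_nn_le_pow ch5_count
  simp only [List.map_cons, List.map_nil, List.prod_cons, List.prod_nil, h1, h2, h3, h4, h5] at hb
  exact le_trans (by norm_num) hb

/-! ### The order -/

theorem finite_Suz : Finite (PresentedGroup Suz1782.rels) := card_Suz_le.1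

theorem card_Suz : Nat.card (PresentedGroup Suz1782.rels) = 448345497600 := by
  have := finite_Suz
  apply le_antisymm
  · exact le_trans card_Suz_le.2 (by norm_num)
  · have h1 : Nat.card phi.range ≤ Nat.card (PresentedGroup Suz1782.rels) :=
      Nat.card_le_card_of_surjective _ phi.rangeRestrict_surjective
    exact le_trans (le_trans (by norm_num) card_range_ge) h1

theorem phi_injective : Function.Injective phi := by
  have := finite_Suz
  rw [← MonoidHom.ker_eq_bot_iff]
  have h1 : Nat.card phi.ker * Nat.card phi.range = Nat.card (PresentedGroup Suz1782.rels) := by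
    rw [← Subgroup.index_ker, Subgroup.card_mul_index]
  have h2 : Nat.card phi.range ≤ Nat.card (PresentedGroup Suz1782.rels) :=
    Nat.card_le_card_of_surjective _ phi.rangeRestrict_surjective
  have h3 : Nat.card phi.range = 448345497600 := by
    apply le_antisymm
    · rw [← card_Suz]; exact h2
    · exact le_trans (by norm_num) card_range_ge
  rw [h3, card_Suz] at h1
  have h4 : Nat.card phi.ker = 1 :=
    Nat.eq_of_mul_eq_mul_right (by norm_num : 0 < 448345497600) (by rw [h1, one_mul])
  exact Subgroup.card_eq_one.1 h4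

end Cfsg.Agent.Lib.Helper28.SuzOrd
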