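/-
The presented sporadic Suzuki group is simple (Iwasawa's criterion on the 22880 cosets of
`⟨a, b, c, d, f, g⟩ = 3·U₄(3):2`, whose normal subgroup of order 3 is generated by `(bcdcd)^5`).
-/
import Cfsg.Agent.Lib.Helper28.SuzOrd.Order
import Cfsg.Agent.Lib.Helper28.IwasawaLemmas
import Cfsg.Agent.Lib.Helper28.Suz1782.Orbits
import Cfsg.Agent.Lib.Helper28.Suz22880.Main
import Cfsg.Agent.Lib.Helper28.Suz22880.Orbits

set_option autoImplicit false

namespace Cfsg.Agent.Lib.Helper28.SuzOrd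

open Cfsg.Agent.Lib.Helper28.TC
open Cfsg.Agent.Lib.Helper28.Ord
open Cfsg.Spor.Suz (Gen)
open MulAction

/-- the presented group -/
abbrev GS : Type := PresentedGroup Suz1782.rels

/-- the subgroup `⟨a, …, f⟩` -/
noncomputable abbrev HS : Subgroup GS := subH Suz1782.rels Suz1782.subS

/-- the subgroup `⟨a, b, c, d, f, g⟩` -/
noncomputable abbrev KS : Subgroup GS := subH Suz22880.rels Suz22880.subS

instance : Finite GS := finite_Suz

/-! ### Primitivity on 1782 points -/

theorem index_HS : HS.index = 1782 := by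
  obtain ⟨e, _, _⟩ := Suz1782.cosetEquiv
  exact (Nat.card_congr e).trans (Nat.card_fin _)

theorem prim_HS : IsPreprimitive GS (GS ⧸ HS) := by
  obtain ⟨e, _, hequiv⟩ := Suz1782.cosetEquiv
  have hS : ∀ s ∈ Suz1782.subS, ∃ w ∈ Suz1782.subWords,
      FreeGroup.lift Suz1782.T.perm s = (w.map Suz1782.T.perm).prod := by
    intro s hs
    obtain ⟨ex, hex, rfl⟩ := (Suz1782.subS_iff s).1 hs
    exact ⟨ex.evalW, Suz1782.subE_words ex hex,
      TC.WE.lift_evalF Suz1782.T.perm Suz1782.T.perm_mul_self ex⟩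
  have hW : ∀ w ∈ Suz1782.subWords, ∃ s ∈ Suz1782.subS,
      FreeGroup.lift Suz1782.T.perm s = (w.map Suz1782.T.perm).prod := by
    intro w hw
    obtain ⟨ex, hex, rfl⟩ := Suz1782.subWords_cover w hw
    exact ⟨ex.evalF, (Suz1782.subS_iff _).2 ⟨ex, hex, rfl⟩,
      TC.WE.lift_evalF Suz1782.T.perm Suz1782.T.perm_mul_self ex⟩
  let q1 : GS ⧸ HS := e.symm ⟨47, by decide⟩
  let q2 : GS ⧸ HS := e.symm ⟨1, by decide⟩
  have h1 : (orbit HS q1).ncard = 416 :=
    TC.orbit_ncard_of_cert Suz1782.T Suz1782.hrel e hequiv Suz1782.subWords hS hW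
      (Suz1782.OC 2 47) (by decide) Suz1782.orb2_root Suz1782.orbP2_all 11 416
      Suz1782.nn_le_pow Suz1782.orb2_count
  have h2 : (orbit HS q2).ncard = 1365 :=
    TC.orbit_ncard_of_cert Suz1782.T Suz1782.hrel e hequiv Suz1782.subWords hS hW
      (Suz1782.OC 1 1) (by decide) Suz1782.orb1_root Suz1782.orbP1_all 11 1365
      Suz1782.nn_le_pow Suz1782.orb1_count
  have hcard : Nat.card (GS ⧸ HS) = 1782 := index_HS
  refine isPreprimitive_of_suborbits ((1 : GS) : GS ⧸ HS) HS
    (le_of_eq (stabilizer_quotient HS).symm)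
    [q1, q2] [416, 1365] ?_ (by decide) (by decide)
    (by rw [hcard]; rfl) ?_
  · show [(orbit HS q1).ncard, (orbit HS q2).ncard] = _
    rw [h1, h2]
  · rw [hcard]
    intro l hl
    exact (by decide : ∀ l ∈ [416, 1365].sublists,
      (1 + l.sum ∣ 1782 → l.sum = 0 ∨ 1 + l.sum = 1782)) l (List.mem_sublists.2 hl)

theorem faithful_HS : FaithfulSMul GS (GS ⧸ HS) := by
  obtain ⟨e, _, hequiv⟩ := Suz1782.cosetEquiv
  constructor
  intro g₁ g₂ h
  apply phi_injective
  ext i
  have h1 := hequiv g₁ (e.symm i)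
  have h2 := hequiv g₂ (e.symm i)
  rw [Equiv.apply_symm_apply] at h1 h2
  show ((PresentedGroup.toGroup Suz1782.hrel g₁) i).val = ((PresentedGroup.toGroup Suz1782.hrel g₂) i).val
  rw [← h1, ← h2, h (e.symm i)]

/-! ### Primitivity on 22880 points -/

theorem index_KS : KS.index = 22880 := by
  obtain ⟨e, _, _⟩ := Suz22880.cosetEquiv
  exact (Nat.card_congr e).trans (Nat.card_fin _)

theorem prim_KS : IsPreprimitive GS (GS ⧸ KS) := by
  obtain ⟨e, _, hequiv⟩ := Suz22880.cosetEquiv
  have hS : ∀ s ∈ Suz22880.subS, ∃ w ∈ Suz22880.subWords,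
      FreeGroup.lift Suz22880.T.perm s = (w.map Suz22880.T.perm).prod := by
    intro s hs
    obtain ⟨ex, hex, rfl⟩ := (Suz22880.subS_iff s).1 hs
    exact ⟨ex.evalW, Suz22880.subE_words ex hex,
      TC.WE.lift_evalF Suz22880.T.perm Suz22880.T.perm_mul_self ex⟩
  have hW : ∀ w ∈ Suz22880.subWords, ∃ s ∈ Suz22880.subS,
      FreeGroup.lift Suz22880.T.perm s = (w.map Suz22880.T.perm).prod := by
    intro w hw
    obtain ⟨ex, hex, rfl⟩ := Suz22880.subWords_cover w hw
    exact ⟨ex.evalF, (Suz22880.subS_iff _).2 ⟨ex, hex, rfl⟩,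
      TC.WE.lift_evalF Suz22880.T.perm Suz22880.T.perm_mul_self ex⟩
  let q1 : GS ⧸ KS := e.symm ⟨1, by decide⟩
  let q2 : GS ⧸ KS := e.symm ⟨10, by decide⟩
  let q3 : GS ⧸ KS := e.symm ⟨67, by decide⟩
  let q4 : GS ⧸ KS := e.symm ⟨7122, by decide⟩
  have h1 : (orbit KS q1).ncard = 486 :=
    TC.orbit_ncard_of_cert Suz22880.T Suz22880.hrel e hequiv Suz22880.subWords hS hW
      (Suz22880.OC 1 1) (by decide) Suz22880.orb1_root Suz22880.orbP1_all 15 486
      Suz22880.nn_le_pow Suz22880.orb1_count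
  have h2 : (orbit KS q2).ncard = 8505 :=
    TC.orbit_ncard_of_cert Suz22880.T Suz22880.hrel e hequiv Suz22880.subWords hS hW
      (Suz22880.OC 2 10) (by decide) Suz22880.orb2_root Suz22880.orbP2_all 15 8505
      Suz22880.nn_le_pow Suz22880.orb2_count
  have h3 : (orbit KS q3).ncard = 13608 :=
    TC.orbit_ncard_of_cert Suz22880.T Suz22880.hrel e hequiv Suz22880.subWords hS hW
      (Suz22880.OC 3 67) (by decide) Suz22880.orb3_root Suz22880.orbP3_all 15 13608
      Suz22880.nn_le_pow Suz22880.orb3_count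
  have h4 : (orbit KS q4).ncard = 280 :=
    TC.orbit_ncard_of_cert Suz22880.T Suz22880.hrel e hequiv Suz22880.subWords hS hW
      (Suz22880.OC 4 7122) (by decide) Suz22880.orb4_root Suz22880.orbP4_all 15 280
      Suz22880.nn_le_pow Suz22880.orb4_count
  have hcard : Nat.card (GS ⧸ KS) = 22880 := index_KS
  refine isPreprimitive_of_suborbits ((1 : GS) : GS ⧸ KS) KS
    (le_of_eq (stabilizer_quotient KS).symm)
    [q1, q2, q3, q4] [486, 8505, 13608, 280] ?_ (by decide) (by decide)
    (by rw [hcard]; rfl) ?_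
  · show [(orbit KS q1).ncard, (orbit KS q2).ncard, (orbit KS q3).ncard, (orbit KS q4).ncard] = _
    rw [h1, h2, h3, h4]
  · rw [hcard]
    intro l hl
    exact (by decide : ∀ l ∈ [486, 8505, 13608, 280].sublists,
      (1 + l.sum ∣ 22880 → l.sum = 0 ∨ 1 + l.sum = 22880)) l (List.mem_sublists.2 hl)

theorem card_KS : Nat.card KS = 19595520 := by
  have h := Subgroup.card_mul_index KS
  rw [index_KS, card_Suz] at h
  exact Nat.eq_of_mul_eq_mul_right (by norm_num : 0 < 22880) (by rw [h])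

/-! ### The element of order three -/

/-- the images of the generators -/
noncomputable abbrev gv (x : Gen) : GS := pval Suz1782.rels x

/-- the word `(bcdcd)^5` -/
def zw : List Gen := (List.replicate 5 [Gen.b, Gen.c, Gen.d, Gen.c, Gen.d]).flatten

/-- the element `(bcdcd)^5` -/
noncomputable def zS : GS := wval gv zw

theorem zS_eq : zS = (gv Gen.b * gv Gen.c * gv Gen.d * gv Gen.c * gv Gen.d) ^ 5 := by
  rw [zS, zw, WE.wval_replicate_flatten]
  simp [wval, mul_assoc]

theorem wval_eq_one_of_fix (w : List Gen) (h : ∀ i, i < Suz1782.nn → act Suz1782.tf w i = i) :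
    wval gv w = 1 := by
  apply phi_injective
  rw [map_one]
  show PresentedGroup.toGroup Suz1782.hrel (wval (pval Suz1782.rels) w) = 1
  rw [toGroup_wval Suz1782.T Suz1782.hrel]
  exact Suz1782.T.wordPerm_eq_one w h

theorem zRel_eq : Suz1782.zRel =
    [Gen.a :: (zw ++ Gen.a :: zw.reverse), Gen.b :: (zw ++ Gen.b :: zw.reverse),
     Gen.c :: (zw ++ Gen.c :: zw.reverse), Gen.d :: (zw ++ Gen.d :: zw),
     Gen.f :: (zw ++ Gen.f :: zw.reverse), Gen.g :: (zw ++ Gen.g :: zw.reverse)] := by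
  decide

theorem gv_inv (x : Gen) : (gv x)⁻¹ = gv x := inv_eq_of_mul_eq_one_left (Suz1782.hinv x)

theorem zRel_one (w : List Gen) (hw : w ∈ Suz1782.zRel) : wval gv w = 1 :=
  wval_eq_one_of_fix w fun i hi =>
    relRowOK_spec Suz1782.tf Suz1782.zRel i (Suz1782.zRelP_all i hi) w hw

theorem conj_zS_centr (x : Gen) (h : (x :: (zw ++ x :: zw.reverse)) ∈ Suz1782.zRel) :
    gv x * zS * (gv x)⁻¹ = zS := by
  have h1 := zRel_one _ h
  rw [wval_cons, wval_append, wval_cons, wval_reverse gv Suz1782.hinv] at h1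
  rw [gv_inv, zS]
  have : gv x * wval gv zw * gv x = wval gv zw := by
    have h2 : gv x * wval gv zw * gv x * (wval gv zw)⁻¹ = 1 := by rw [← h1]; group
    exact mul_inv_eq_one.1 h2
  exact this

theorem conj_zS_inv (x : Gen) (h : (x :: (zw ++ x :: zw)) ∈ Suz1782.zRel) :
    gv x * zS * (gv x)⁻¹ = zS⁻¹ := by
  have h1 := zRel_one _ h
  rw [wval_cons, wval_append, wval_cons] at h1
  rw [gv_inv, zS]
  have h2 : gv x * wval gv zw * gv x * wval gv zw = 1 := by rw [← h1]; group
  exact mul_eq_one_iff_eq_inv.1 h2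

/-! ### Relations -/

theorem rel_of_mem (e : WE Gen) (he : e ∈ coxE Cfsg.Spor.Suz.edges ++ Suz1782.extraE) :
    wval gv e.evalW = 1 :=
  wval_pval_eq_one Suz1782.rels Suz1782.hinv e ((Suz1782.rels_iff _).2 ⟨e, he, rfl⟩)

theorem relWord_one (w : List Gen) (hw : w ∈ Suz1782.relWords) : wval gv w = 1 := by
  obtain ⟨e, he, rfl⟩ := Suz1782.relWords_cover w hw
  exact rel_of_mem e he

theorem sq (x : Gen) : gv x * gv x = 1 := Suz1782.hinv x

theorem rel_ab : (gv Gen.a * gv Gen.b) ^ 5 = 1 := by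
  have h := relWord_one [Gen.a, Gen.b, Gen.a, Gen.b, Gen.a, Gen.b, Gen.a, Gen.b, Gen.a, Gen.b]
    (by decide)
  simpa [wval, pow_succ, mul_assoc] using h

theorem rel_bc : (gv Gen.b * gv Gen.c) ^ 3 = 1 := by
  have h := relWord_one [Gen.b, Gen.c, Gen.b, Gen.c, Gen.b, Gen.c] (by decide)
  simpa [wval, pow_succ, mul_assoc] using h

theorem rel_de : (gv Gen.d * gv Gen.e) ^ 3 = 1 := by
  have h := relWord_one [Gen.d, Gen.e, Gen.d, Gen.e, Gen.d, Gen.e] (by decide)
  simpa [wval, pow_succ, mul_assoc] using h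

theorem rel_bf : (gv Gen.b * gv Gen.f) ^ 3 = 1 := by
  have h := relWord_one [Gen.b, Gen.f, Gen.b, Gen.f, Gen.b, Gen.f] (by decide)
  simpa [wval, pow_succ, mul_assoc] using h

theorem rel_gb : (gv Gen.g * gv Gen.b) ^ 3 = 1 := by
  have h := relWord_one [Gen.g, Gen.b, Gen.g, Gen.b, Gen.g, Gen.b] (by decide)
  simpa [wval, pow_succ, mul_assoc] using h

theorem rel_acd : gv Gen.a = (gv Gen.c * gv Gen.d) ^ 4 := by
  have h : PresentedGroup.mk Suz1782.rels
      (Cfsg.Spor.Suz.a * ((Cfsg.Spor.Suz.c * Cfsg.Spor.Suz.d) ^ 4)⁻¹) = 1 :=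
    PresentedGroup.one_of_mem (Or.inr (by simp [Cfsg.Spor.Suz.extra]))
  rw [map_mul, map_inv, map_pow, map_mul] at h
  exact mul_inv_eq_one.1 h

theorem rel_ze : (zS * gv Gen.e) ^ 3 = 1 := by
  have h : PresentedGroup.mk Suz1782.rels
      (((Cfsg.Spor.Suz.b * Cfsg.Spor.Suz.c * Cfsg.Spor.Suz.d * Cfsg.Spor.Suz.c * Cfsg.Spor.Suz.d) ^ 5
        * Cfsg.Spor.Suz.e) ^ 3) = 1 :=
    PresentedGroup.one_of_mem (Or.inr (by simp [Cfsg.Spor.Suz.extra]))
  rw [map_pow, map_mul, map_pow, map_mul, map_mul, map_mul, map_mul] at h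
  rw [zS_eq]
  exact h

/-! ### Quotients in which the generators die -/

theorem eq_one_of_sq_cube {Q : Type*} [Group Q] (x : Q) (h2 : x * x = 1) (h3 : x ^ 3 = 1) :
    x = 1 := by
  have : x ^ 3 = x * x * x := by rw [pow_succ, pow_two]
  rw [this, h2, one_mul] at h3
  exact h3

theorem eq_one_of_sq_fifth {Q : Type*} [Group Q] (x : Q) (h2 : x * x = 1) (h5 : x ^ 5 = 1) :
    x = 1 := by
  have : x ^ 5 = x * x * (x * x) * x := by
    rw [pow_succ, pow_succ, pow_succ, pow_two]; simp only [mul_assoc]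
  rw [this, h2, one_mul, one_mul] at h5
  exact h5

/-- A homomorphism that kills `(bcdcd)^5` kills every generator. -/
theorem hom_trivial_of_z {Q : Type*} [Group Q] (π : GS →* Q) (hz : π zS = 1) (x : Gen) :
    π (gv x) = 1 := by
  have hsq : ∀ y, π (gv y) * π (gv y) = 1 := fun y => by rw [← map_mul, sq, map_one]
  have he : π (gv Gen.e) = 1 := by
    have h := congrArg π rel_ze
    rw [map_pow, map_mul, hz, one_mul, map_one] at h
    exact eq_one_of_sq_cube _ (hsq _) h
  have hd : π (gv Gen.d) = 1 := by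
    have h := congrArg π rel_de
    rw [map_pow, map_mul, he, mul_one, map_one] at h
    exact eq_one_of_sq_cube _ (hsq _) h
  have ha : π (gv Gen.a) = 1 := by
    have h := congrArg π rel_acd
    rw [map_pow, map_mul, hd, mul_one] at h
    rw [h]
    have : π (gv Gen.c) ^ 4 = (π (gv Gen.c) * π (gv Gen.c)) * (π (gv Gen.c) * π (gv Gen.c)) := by
      rw [pow_succ, pow_succ, pow_two]; simp only [mul_assoc]
    rw [this, hsq, one_mul]
  have hb : π (gv Gen.b) = 1 := by
    have h := congrArg π rel_ab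
    rw [map_pow, map_mul, ha, one_mul, map_one] at h
    exact eq_one_of_sq_fifth _ (hsq _) h
  have hc : π (gv Gen.c) = 1 := by
    have h := congrArg π rel_bc
    rw [map_pow, map_mul, hb, one_mul, map_one] at h
    exact eq_one_of_sq_cube _ (hsq _) h
  have hf : π (gv Gen.f) = 1 := by
    have h := congrArg π rel_bf
    rw [map_pow, map_mul, hb, one_mul, map_one] at h
    exact eq_one_of_sq_cube _ (hsq _) h
  have hg : π (gv Gen.g) = 1 := by
    have h := congrArg π rel_gb
    rw [map_pow, map_mul, hb, mul_one, map_one] at h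
    exact eq_one_of_sq_cube _ (hsq _) h
  cases x <;> assumption

theorem eq_top_of_gens (N : Subgroup GS) (h : ∀ x, gv x ∈ N) : N = ⊤ := by
  rw [eq_top_iff]
  intro g _
  exact PresentedGroup.generated_by Suz1782.rels N h g

theorem normalClosure_zS : Subgroup.normalClosure {zS} = ⊤ := by
  apply eq_top_of_gens
  intro x
  have h := hom_trivial_of_z (QuotientGroup.mk' (Subgroup.normalClosure {zS}))
    ((QuotientGroup.eq_one_iff _).2 (Subgroup.subset_normalClosure (Set.mem_singleton _))) x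
  exact (QuotientGroup.eq_one_iff _).1 h

theorem comm_eq_of_cube {Q : Type*} [CommGroup Q] (x y : Q) (hx : x * x = 1) (hy : y * y = 1)
    (h : (x * y) ^ 3 = 1) : x = y := by
  have h1 : (x * y) ^ 3 = (x * x) * (y * y) * (x * y) := by
    rw [pow_succ, pow_two]
    simp only [mul_comm, mul_left_comm]
  rw [h1, hx, hy, one_mul, one_mul] at h
  calc x = x * (y * y) := by rw [hy, mul_one]
    _ = (x * y) * y := by rw [mul_assoc]
    _ = y := by rw [h, one_mul]

theorem comm_eq_of_fifth {Q : Type*} [CommGroup Q] (x y : Q) (hx : x * x = 1) (hy : y * y = 1)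
    (h : (x * y) ^ 5 = 1) : x = y := by
  have h1 : (x * y) ^ 5 = (x * x) * (x * x) * ((y * y) * (y * y)) * (x * y) := by
    rw [pow_succ, pow_succ, pow_succ, pow_two]
    simp only [mul_comm, mul_left_comm]
  rw [h1, hx, hy, one_mul, one_mul, one_mul] at h
  calc x = x * (y * y) := by rw [hy, mul_one]
    _ = (x * y) * y := by rw [mul_assoc]
    _ = y := by rw [h, one_mul]

theorem perfect_GS : commutator GS = ⊤ := by
  apply eq_top_of_gens
  intro x
  rw [← Abelianization.ker_of, MonoidHom.mem_ker]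
  set π : GS →* Abelianization GS := Abelianization.of with hπ
  have hsq : ∀ y, π (gv y) * π (gv y) = 1 := fun y => by rw [← map_mul, sq, map_one]
  have hab : π (gv Gen.a) = π (gv Gen.b) := by
    have h := congrArg π rel_ab
    rw [map_pow, map_mul, map_one] at h
    exact comm_eq_of_fifth _ _ (hsq _) (hsq _) h
  have hbc : π (gv Gen.b) = π (gv Gen.c) := by
    have h := congrArg π rel_bc
    rw [map_pow, map_mul, map_one] at h
    exact comm_eq_of_cube _ _ (hsq _) (hsq _) h
  have ha : π (gv Gen.a) = 1 := by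
    have h := congrArg π rel_acd
    rw [map_pow, map_mul] at h
    rw [h]
    have h4 : ∀ y : Abelianization GS, y * y = 1 → y ^ 4 = 1 := by
      intro y hy
      rw [show (4 : ℕ) = 2 + 2 from rfl, pow_add, pow_two, hy, one_mul]
    rw [mul_pow, h4 _ (hsq _), h4 _ (hsq _), one_mul]
  have hb : π (gv Gen.b) = 1 := by rw [← hab, ha]
  have hc : π (gv Gen.c) = 1 := by rw [← hbc, hb]
  have hz : π zS = 1 := by
    rw [zS_eq, map_pow, map_mul, map_mul, map_mul, map_mul, hb, hc, one_mul, one_mul, mul_one, hsq,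
      one_pow]
  exact hom_trivial_of_z π hz x

/-! ### Simplicity -/

theorem KS_eq_closure : KS = Subgroup.closure (PresentedGroup.mk Suz1782.rels '' Suz22880.subS) := by
  show (Subgroup.closure Suz22880.subS).map (PresentedGroup.mk Suz22880.rels) = _
  rw [MonoidHom.map_closure]

theorem zS_normalized : ∀ s ∈ PresentedGroup.mk Suz1782.rels '' Suz22880.subS,
    s * zS * s⁻¹ = zS ∨ s * zS * s⁻¹ = zS⁻¹ := by
  rintro _ ⟨s, hs, rfl⟩
  have hz := zRel_eq
  rcases hs with rfl | rfl | rfl | rfl | rfl | rfl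
  · left; exact conj_zS_centr Gen.a (by rw [hz]; simp)
  · left; exact conj_zS_centr Gen.b (by rw [hz]; simp)
  · left; exact conj_zS_centr Gen.c (by rw [hz]; simp)
  · right; exact conj_zS_inv Gen.d (by rw [hz]; simp)
  · left; exact conj_zS_centr Gen.f (by rw [hz]; simp)
  · left; exact conj_zS_centr Gen.g (by rw [hz]; simp)

theorem nontrivial_GS : Nontrivial GS := by
  rw [← Finite.one_lt_card_iff_nontrivial, card_Suz]
  norm_num

/-- The presented sporadic Suzuki group is simple. -/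
theorem isSimpleGroup_GS : IsSimpleGroup GS := by
  have := nontrivial_GS
  have := prim_HS
  have := prim_KS
  refine isSimpleGroup_of_two_actions HS KS faithful_HS ?_ zS _ KS_eq_closure zS_normalized
    normalClosure_zS perfect_GS
  rw [index_HS, card_KS]
  decide

end Cfsg.Agent.Lib.Helper28.SuzOrd
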