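/-
Sub-presentations of the presented sporadic Suzuki group on the generator subsets
`a..f` (G₂(4)), `a..e` (J₂) and `a..d` (3·PGL₂(9)), used to bound the order from above.
-/
import Cfsg.Prelude.Def_Spor_Suz

set_option autoImplicit false

namespace Cfsg.Agent.Lib.Helper28.SuzSub

namespace P6

/-- The generators a, b, c, d, e, f. -/
inductive Gen
  | a
  | b
  | c
  | d
  | e
  | f
  deriving DecidableEq

/-- the generator a as a word -/ abbrev a : FreeGroup Gen := FreeGroup.of Gen.a
/-- the generator b as a word -/ abbrev b : FreeGroup Gen := FreeGroup.of Gen.b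
/-- the generator c as a word -/ abbrev c : FreeGroup Gen := FreeGroup.of Gen.c
/-- the generator d as a word -/ abbrev d : FreeGroup Gen := FreeGroup.of Gen.d
/-- the generator e as a word -/ abbrev e : FreeGroup Gen := FreeGroup.of Gen.e
/-- the generator f as a word -/ abbrev f : FreeGroup Gen := FreeGroup.of Gen.f

/-- The Coxeter graph restricted to a, …, f. -/
def edges : List (Gen × ℕ × Gen) :=
  [(.a, 5, .b), (.b, 3, .c), (.c, 8, .d), (.d, 3, .e), (.b, 3, .f)]

/-- The further relators that only involve a, …, f. -/
def extra : List (FreeGroup Gen) := [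
  a * ((c * d) ^ 4)⁻¹,
  (a * b * c * f) ^ 5,
  ((b * c * d * c * d) ^ 5 * e) ^ 3 ]

/-- the inclusion of the generators -/
def incl : Gen → Cfsg.Spor.Suz.Gen
  | .a => .a
  | .b => .b
  | .c => .c
  | .d => .d
  | .e => .e
  | .f => .f

end P6

namespace P5

/-- The generators a, b, c, d, e. -/
inductive Gen
  | a
  | b
  | c
  | d
  | e
  deriving DecidableEq

/-- the generator a as a word -/ abbrev a : FreeGroup Gen := FreeGroup.of Gen.a
/-- the generator b as a word -/ abbrev b : FreeGroup Gen := FreeGroup.of Gen.b
/-- the generator c as a word -/ abbrev c : FreeGroup Gen := FreeGroup.of Gen.c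
/-- the generator d as a word -/ abbrev d : FreeGroup Gen := FreeGroup.of Gen.d
/-- the generator e as a word -/ abbrev e : FreeGroup Gen := FreeGroup.of Gen.e

/-- The Coxeter graph restricted to a, …, e. -/
def edges : List (Gen × ℕ × Gen) :=
  [(.a, 5, .b), (.b, 3, .c), (.c, 8, .d), (.d, 3, .e)]

/-- The further relators that only involve a, …, e. -/
def extra : List (FreeGroup Gen) := [
  a * ((c * d) ^ 4)⁻¹,
  ((b * c * d * c * d) ^ 5 * e) ^ 3 ]

/-- the inclusion of the generators -/
def incl : Gen → P6.Gen
  | .a => .a
  | .b => .b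
  | .c => .c
  | .d => .d
  | .e => .e

end P5

namespace P4

/-- The generators a, b, c, d. -/
inductive Gen
  | a
  | b
  | c
  | d
  deriving DecidableEq

/-- the generator a as a word -/ abbrev a : FreeGroup Gen := FreeGroup.of Gen.a
/-- the generator b as a word -/ abbrev b : FreeGroup Gen := FreeGroup.of Gen.b
/-- the generator c as a word -/ abbrev c : FreeGroup Gen := FreeGroup.of Gen.c
/-- the generator d as a word -/ abbrev d : FreeGroup Gen := FreeGroup.of Gen.d

/-- The Coxeter graph restricted to a, …, d. -/
def edges : List (Gen × ℕ × Gen) :=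
  [(.a, 5, .b), (.b, 3, .c), (.c, 8, .d)]

/-- The further relator that only involves a, …, d. -/
def extra : List (FreeGroup Gen) := [
  a * ((c * d) ^ 4)⁻¹ ]

/-- the inclusion of the generators -/
def incl : Gen → P5.Gen
  | .a => .a
  | .b => .b
  | .c => .c
  | .d => .d

end P4

end Cfsg.Agent.Lib.Helper28.SuzSub
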